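import Cfsg.Agent.SemisimpleSU.Star
import Cfsg.Agent.S2587
import Cfsg.Agent.S2588

/-!
# Semisimple conjugacy in the special unitary group

A semisimple element of `GU` is conjugate to a block sum whose first block has squarefree
characteristic polynomial; the centraliser of that block has every determinant of norm one.
-/

set_option autoImplicit false
set_option linter.style.haveILetI false
set_option linter.unusedSectionVars false

namespace CfsgLib.SemisimpleSU

open Polynomial CfsgLib.InvNorm CfsgLib.CharpolySS Matrix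

variable {K : Type*} [Field K] [Fintype K] {p : ℕ} [hp : Fact p.Prime] [CharP K p] {q : ℕ}

theorem charpoly_tau_inv {n : ℕ} (σ : K →+* K) (A : GL (Fin n) K) :
    (tau σ (A : Matrix (Fin n) (Fin n) K))⁻¹.charpoly = star σ A.1.charpoly := by
  have hm : (tau σ A.1).charpoly = A.1.charpoly.map σ := by
    rw [tau, Matrix.charpoly_transpose, Matrix.charpoly_map]
  rw [Matrix.charpoly_inv _ (isUnit_tau A.isUnit), ← Matrix.reverse_charpoly, hm, star]
  congr 1
  rw [Matrix.det_eq_sign_charpoly_coeff, hm, coeff_map]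
  rw [Ring.inverse_eq_inv', mul_inv, ← inv_pow, inv_neg, inv_one, map_mul, map_pow, map_neg,
    map_one, ← mul_assoc, ← mul_pow]
  simp

theorem star_charpoly_GU {σ : K →+* K} (hσ : ∀ x, σ x = x ^ q)
    (hσσ : ∀ x, σ (σ x) = x) {n : ℕ} (A : Cfsg.GU n K q) :
    star σ (A : GL (Fin n) K).1.charpoly = (A : GL (Fin n) K).1.charpoly := by
  rw [← charpoly_tau_inv]
  rw [Matrix.inv_eq_right_inv ((mem_GU_iff hσ hσσ _).1 A.2)]

theorem orderOf_coprime_of_conj {G : Type*} [Group G] {g h : G} (hc : IsConj g h)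
    (hg : (orderOf g).Coprime p) : (orderOf h).Coprime p := by
  obtain ⟨k, rfl⟩ := isConj_iff.1 hc
  have e : MulAut.conj k g = k * g * k⁻¹ := rfl
  rw [← e]
  exact (orderOf_injective (MulAut.conj k).toMonoidHom (MulAut.conj k).injective g).symm ▸ hg

/-- Every conjugate-reciprocal monic polynomial occurs for a semisimple element of `GU`. -/
theorem exists_GU_charpoly (hK : Fintype.card K = q ^ 2) {σ : K →+* K} (hσ : ∀ x, σ x = x ^ q)
    {χ : K[X]} (hm : χ.Monic) (h0 : χ.coeff 0 ≠ 0) (hs : star σ χ = χ) {n : ℕ}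
    (hn : χ.natDegree = n) :
    ∃ B : Cfsg.GU n K q, (orderOf (B : GL (Fin n) K)).Coprime p ∧
      (B : GL (Fin n) K).1.charpoly = χ := by
  rcases Nat.eq_zero_or_pos n with rfl | hpos
  · refine ⟨1, by simp, ?_⟩
    rw [hm.natDegree_eq_zero.1 hn]
    exact Matrix.charpoly_isEmpty
  · obtain ⟨g, hg, hgc⟩ := exists_GL_charpoly (p := p) (Nat.succ_le_of_lt hpos) χ hm hn h0
    have hu := isUnit_tau (σ := σ) g.isUnit
    let f : GL (Fin n) K := hu.unit⁻¹
    have hf : f.1 = (tau σ g.1)⁻¹ := by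
      rw [Matrix.inv_eq_right_inv (hu.mul_val_inv)]
    have hpow : ∀ k : ℕ, tau σ (g.1 ^ k) = tau σ g.1 ^ k := by
      intro k
      induction k with
      | zero => simp [tau_one]
      | succ k ih => rw [pow_succ', tau_mul, ih, ← pow_succ]
    have hford : f ^ orderOf g = 1 := by
      rw [show f = hu.unit⁻¹ from rfl, inv_pow, inv_eq_one]
      apply Units.ext
      rw [Units.val_pow_eq_pow_val, IsUnit.unit_spec, ← hpow, ← Units.val_pow_eq_pow_val,
        pow_orderOf_eq_one]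
      exact tau_one σ
    have hc : IsConj g f := isConj_GL_of_charpoly_eq g f hg
      (Nat.Coprime.coprime_dvd_left (orderOf_dvd_of_pow_eq_one hford) hg)
      (by rw [hf, charpoly_tau_inv, hgc, hs])
    have hσe : (⇑σ : K → K) = fun x => x ^ q := funext hσ
    obtain ⟨B, hB⟩ := (Cfsg.Agent.S2588.result hK g).2 (by
      have := (Units.coeHom (Matrix (Fin n) (Fin n) K)).map_isConj hc
      simpa [tau, hσe, hf] using this)
    refine ⟨B, orderOf_coprime_of_conj hB hg, ?_⟩
    obtain ⟨k, hk⟩ := isConj_iff.1 hB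
    rw [← hk, ← hgc]
    rw [Units.val_mul, Units.val_mul, Matrix.coe_units_inv]
    exact Matrix.charpoly_units_conj k g.1

/-- Block sum of two matrices. -/
noncomputable def blk {a b : ℕ} :
    (Matrix (Fin a) (Fin a) K × Matrix (Fin b) (Fin b) K) →*
      Matrix (Fin (a + b)) (Fin (a + b)) K where
  toFun x := Matrix.reindexAlgEquiv K K finSumFinEquiv (Matrix.fromBlocks x.1 0 0 x.2)
  map_one' := by simp [Matrix.fromBlocks_one]
  map_mul' x y := by rw [← map_mul, Matrix.fromBlocks_multiply]; simp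

theorem blk_apply {a b : ℕ} (x : Matrix (Fin a) (Fin a) K × Matrix (Fin b) (Fin b) K) :
    blk x = (Matrix.fromBlocks x.1 0 0 x.2).submatrix finSumFinEquiv.symm finSumFinEquiv.symm := by
  simp [blk]

theorem tau_blk (σ : K →+* K) {a b : ℕ} (A : Matrix (Fin a) (Fin a) K) (B : Matrix (Fin b) (Fin b) K) :
    tau σ (blk (A, B)) = blk (tau σ A, tau σ B) := by
  simp only [blk_apply, tau]
  rw [← Matrix.submatrix_map, Matrix.fromBlocks_map, Matrix.transpose_submatrix,
    Matrix.fromBlocks_transpose]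
  simp

theorem charpoly_blk {a b : ℕ} (A : Matrix (Fin a) (Fin a) K) (B : Matrix (Fin b) (Fin b) K) :
    (blk (A, B)).charpoly = A.charpoly * B.charpoly := by
  show (Matrix.reindexAlgEquiv K K finSumFinEquiv (Matrix.fromBlocks A 0 0 B)).charpoly = _
  rw [Matrix.coe_reindexAlgEquiv, Matrix.charpoly_reindex, Matrix.charpoly_fromBlocks_zero₁₂]

theorem det_blk {a b : ℕ} (A : Matrix (Fin a) (Fin a) K) (B : Matrix (Fin b) (Fin b) K) :
    (blk (A, B)).det = A.det * B.det := by
  rw [blk_apply, Matrix.det_submatrix_equiv_self, Matrix.det_fromBlocks_zero₁₂]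

/-- Block sum on the unitary groups. -/
noncomputable def blkUnits {a b : ℕ} : GL (Fin a) K × GL (Fin b) K →* GL (Fin (a + b)) K :=
  (Units.map blk).comp MulEquiv.prodUnits.symm.toMonoidHom

theorem coe_blkUnits {a b : ℕ} (A : GL (Fin a) K) (B : GL (Fin b) K) :
    (blkUnits (A, B)).1 = blk (A.1, B.1) := rfl

theorem blkUnits_mem (hσ' : ∃ σ : K →+* K, (∀ x, σ x = x ^ q) ∧ ∀ x, σ (σ x) = x) {a b : ℕ}
    (A : Cfsg.GU a K q) (B : Cfsg.GU b K q) :
    blkUnits ((A : GL (Fin a) K), (B : GL (Fin b) K)) ∈ Cfsg.GU (a + b) K q := by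
  obtain ⟨σ, hσ, hσσ⟩ := hσ'
  rw [mem_GU_iff hσ hσσ, coe_blkUnits, tau_blk, ← map_mul]
  simp only [Prod.mk_mul_mk]
  rw [(mem_GU_iff hσ hσσ _).1 A.2, (mem_GU_iff hσ hσσ _).1 B.2]
  exact map_one blk

/-- Norm-one elements are of the form `z / σ z`. -/
theorem exists_div_conj (hK : Fintype.card K = q ^ 2) {σ : K →+* K} (hσ : ∀ x, σ x = x ^ q)
    {d : K} (hd : σ d * d = 1) : ∃ z : K, z ≠ 0 ∧ z = d * σ z := by
  classical
  have hq : 1 < q := by
    have h1 : 1 < q ^ 2 := hK ▸ Fintype.one_lt_card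
    by_contra h
    interval_cases q <;> simp at h1
  have hd0 : d ≠ 0 := right_ne_zero_of_mul_eq_one hd
  obtain ⟨γ, hγ⟩ := IsCyclic.exists_generator (α := Kˣ)
  obtain ⟨i, hi⟩ := mem_powers_iff_mem_zpowers.2 (hγ (Units.mk0 d hd0))
  have hi' : γ ^ i = Units.mk0 d hd0 := hi
  have hord : orderOf γ = (q + 1) * (q - 1) := by
    rw [orderOf_eq_card_of_forall_mem_zpowers hγ, Nat.card_units, Nat.card_eq_fintype_card, hK,
      ← Nat.sq_sub_sq, one_pow]
  have h1 : γ ^ (i * (q + 1)) = 1 := by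
    rw [pow_mul, hi']
    apply Units.ext
    rw [Units.val_pow_eq_pow_val, Units.val_mk0, Units.val_one, pow_succ, ← hσ]
    exact hd
  have hdiv := orderOf_dvd_of_pow_eq_one h1
  rw [hord, mul_comm i] at hdiv
  obtain ⟨j, rfl⟩ := (Nat.mul_dvd_mul_iff_left (by omega)).1 hdiv
  refine ⟨((γ ^ j)⁻¹ : Kˣ), Units.ne_zero _, ?_⟩
  have hd' : d = ((γ ^ j : Kˣ) : K) ^ (q - 1) := by
    rw [← Units.val_pow_eq_pow_val, ← pow_mul, mul_comm, hi', Units.val_mk0]
  rw [hσ, hd', Units.val_inv_eq_inv_val, inv_pow]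
  have hg0 : ((γ ^ j : Kˣ) : K) ≠ 0 := Units.ne_zero _
  have e : ((γ ^ j : Kˣ) : K) ^ q = ((γ ^ j : Kˣ) : K) ^ (q - 1) * ((γ ^ j : Kˣ) : K) := by
    rw [← pow_succ]
    congr 1
    omega
  rw [e]
  field_simp

/-- The centraliser in `GU` of a semisimple element meets every determinant of norm one. -/
theorem exists_centralizing_det (hK : Fintype.card K = q ^ 2) {σ : K →+* K}
    (hσ : ∀ x, σ x = x ^ q) (hσσ : ∀ x, σ (σ x) = x) {n : ℕ} (hn : 0 < n) (A : Cfsg.GU n K q)
    (hA : (orderOf (A : GL (Fin n) K)).Coprime p) {d : K} (hd : σ d * d = 1) :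
    ∃ U : Cfsg.GU n K q, (U : GL (Fin n) K).1.det = d ∧ U * A = A * U := by
  classical
  set χ := (A : GL (Fin n) K).1.charpoly with hχ
  have hχm : χ.Monic := Matrix.charpoly_monic _
  have hχn : χ.natDegree = n := by rw [hχ, Matrix.charpoly_natDegree_eq_dim, Fintype.card_fin]
  have hχs : star σ χ = χ := star_charpoly_GU hσ hσσ A
  have hχ0 : χ.coeff 0 ≠ 0 := by
    intro h
    have := Matrix.det_eq_sign_charpoly_coeff (A : GL (Fin n) K).1
    rw [← hχ, h, mul_zero] at this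
    exact (Matrix.GeneralLinearGroup.det (A : GL (Fin n) K)).ne_zero (by simpa using this)
  obtain ⟨π₀, hπ₀, hπ₀d⟩ := WfDvdMonoid.exists_irreducible_factor
    (fun hu => by rw [← hχn, natDegree_eq_zero_of_isUnit hu] at hn; exact lt_irrefl 0 hn)
    hχm.ne_zero
  set π := normalize π₀ with hπdef
  have hπ : Irreducible π := (associated_normalize π₀).irreducible hπ₀
  have hπm : π.Monic := Polynomial.monic_normalize hπ₀.ne_zero
  have hπd : π ∣ χ := normalize_dvd_iff.2 hπ₀d
  have hπ0 : π.coeff 0 ≠ 0 := by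
    obtain ⟨c, hc⟩ := hπd
    intro h
    apply hχ0
    rw [hc, mul_coeff_zero, h, zero_mul]
  -- the first block
  obtain ⟨χ₁, h1m, h1s, h1d, h1sq, h1pos⟩ : ∃ χ₁ : K[X], χ₁.Monic ∧ star σ χ₁ = χ₁ ∧ χ₁ ∣ χ ∧
      Squarefree χ₁ ∧ 0 < χ₁.natDegree := by
    by_cases hπs : star σ π = π
    · exact ⟨π, hπm, hπs, hπd, hπ.squarefree, hπ.natDegree_pos⟩
    · have hπ' := irreducible_star hσσ hπm hπ0 hπ
      have hπ'm : (star σ π).Monic := monic_star hπ0
      have hπ'd : star σ π ∣ χ := by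
        obtain ⟨c, hc⟩ := hπd
        rw [← hχs, hc, star_mul]
        exact dvd_mul_right _ _
      have hcop : IsCoprime π (star σ π) := hπ.coprime_iff_not_dvd.2 fun h => hπs
        (eq_of_monic_of_associated hπ'm hπm (hπ.associated_of_dvd hπ' h).symm)
      refine ⟨π * star σ π, hπm.mul hπ'm, ?_, hcop.mul_dvd hπd hπ'd,
        squarefree_mul_iff.2 ⟨hcop.isRelPrime, hπ.squarefree, hπ'.squarefree⟩, ?_⟩
      · rw [star_mul, star_star hσσ hπm hπ0, mul_comm]
      · rw [natDegree_mul hπ.ne_zero hπ'.ne_zero]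
        have := hπ.natDegree_pos
        omega
  obtain ⟨χ₂, hc⟩ := h1d
  have h2m : χ₂.Monic := h1m.of_mul_monic_left (hc ▸ hχm)
  have h01 : χ₁.coeff 0 ≠ 0 := fun h => hχ0 (by rw [hc, mul_coeff_zero, h, zero_mul])
  have h02 : χ₂.coeff 0 ≠ 0 := fun h => hχ0 (by rw [hc, mul_coeff_zero, h, mul_zero])
  have h2s : star σ χ₂ = χ₂ := by
    have h := hχs
    rw [hc, star_mul, h1s] at h
    exact mul_left_cancel₀ h1m.ne_zero h
  obtain rfl : n = χ₁.natDegree + χ₂.natDegree := by
    rw [← hχn, hc, natDegree_mul h1m.ne_zero h2m.ne_zero]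
  obtain ⟨B₁, hB₁, hB₁c⟩ := exists_GU_charpoly (p := p) hK hσ h1m h01 h1s rfl
  obtain ⟨B₂, hB₂, hB₂c⟩ := exists_GU_charpoly (p := p) hK hσ h2m h02 h2s rfl
  set B : Cfsg.GU (χ₁.natDegree + χ₂.natDegree) K q := ⟨_, blkUnits_mem ⟨σ, hσ, hσσ⟩ B₁ B₂⟩
    with hBdef
  have hBo : (orderOf (B : GL (Fin (χ₁.natDegree + χ₂.natDegree)) K)).Coprime p := by
    have h : orderOf (B : GL (Fin (χ₁.natDegree + χ₂.natDegree)) K) ∣
        orderOf (B₁ : GL (Fin χ₁.natDegree) K) * orderOf (B₂ : GL (Fin χ₂.natDegree) K) := by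
      apply orderOf_dvd_of_pow_eq_one
      show blkUnits _ ^ _ = 1
      rw [← map_pow, Prod.pow_mk, pow_mul, pow_orderOf_eq_one, one_pow, mul_comm, pow_mul,
        pow_orderOf_eq_one, one_pow]
      exact map_one blkUnits
    exact Nat.Coprime.coprime_dvd_left h (hB₁.mul_left hB₂)
  have hconj : IsConj B A := (Cfsg.Agent.S2587.result hK B A).2 (isConj_GL_of_charpoly_eq _ _ hBo hA
    (by rw [← hχ, hc]; show (blkUnits _).1.charpoly = _
        rw [coe_blkUnits, charpoly_blk, hB₁c, hB₂c]))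
  obtain ⟨P, hP⟩ := isConj_iff.1 hconj
  -- an element of the centraliser of the first block
  obtain ⟨z, hz0, hz⟩ := exists_div_conj hK hσ hd
  haveI : Nonempty (Fin χ₁.natDegree) := ⟨⟨0, h1pos⟩⟩
  set M₁ := (B₁ : GL (Fin χ₁.natDegree) K).1 with hM₁
  have hM₁0 : aeval M₁ χ₁ = 0 :=
    (congrArg (aeval M₁) hB₁c).symm.trans (Matrix.aeval_self_charpoly M₁)
  obtain ⟨G, hGd, hGc⟩ := exists_commuting_matrix_det M₁ h1sq hM₁0 (Units.mk0 z hz0)
  have htM : tau σ M₁ * M₁ = 1 := (mem_GU_iff hσ hσσ _).1 B₁.2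
  have htM' : M₁ * tau σ M₁ = 1 := mul_eq_one_comm.1 htM
  have htGc : tau σ G * M₁ = M₁ * tau σ G := by
    have h := congrArg (tau σ) hGc
    rw [tau_mul, tau_mul] at h
    calc tau σ G * M₁ = M₁ * tau σ M₁ * tau σ G * M₁ := by rw [htM', one_mul]
      _ = M₁ * (tau σ M₁ * tau σ G) * M₁ := by simp only [mul_assoc]
      _ = M₁ * (tau σ G * tau σ M₁) * M₁ := by rw [h]
      _ = M₁ * tau σ G * (tau σ M₁ * M₁) := by simp only [mul_assoc]
      _ = M₁ * tau σ G := by rw [htM, mul_one]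
  have hcomm : G * tau σ G = tau σ G * G := by
    let e := Matrix.toLinAlgEquiv' (R := K) (n := Fin χ₁.natDegree)
    apply e.injective
    have hsq' : Squarefree (e M₁).charpoly := by
      show Squarefree (Matrix.toLin' M₁).charpoly
      rw [Matrix.charpoly_toLin', hM₁, hB₁c]
      exact h1sq
    rw [map_mul, map_mul]
    refine LinearMap.ext (commute_of_squarefree _ _ (e M₁) le_rfl hsq' (e G) (e (tau σ G))
      (fun v => ?_) (fun v => ?_))
    · rw [← Module.End.mul_apply, ← Module.End.mul_apply, ← map_mul, ← map_mul, hGc]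
    · rw [← Module.End.mul_apply, ← Module.End.mul_apply, ← map_mul, ← map_mul, htGc]
  have hGdet : G.det ≠ 0 := by rw [hGd]; exact hz0
  let Gu : GL (Fin χ₁.natDegree) K := Matrix.GeneralLinearGroup.mkOfDetNeZero G hGdet
  have htu := isUnit_tau (σ := σ) Gu.isUnit
  set D : Matrix (Fin χ₁.natDegree) (Fin χ₁.natDegree) K := (htu.unit⁻¹).1 with hD
  have hGD : tau σ G * D = 1 := htu.mul_val_inv
  have hDG : D * tau σ G = 1 := htu.val_inv_mul
  have hDt : tau σ D * G = 1 := by
    have := congrArg (tau σ) hGD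
    rwa [tau_mul, tau_tau hσσ, tau_one] at this
  let U₁ : GL (Fin χ₁.natDegree) K := Gu * htu.unit⁻¹
  have hU₁ : U₁ ∈ Cfsg.GU χ₁.natDegree K q := by
    rw [mem_GU_iff hσ hσσ]
    show tau σ (G * D) * (G * D) = 1
    rw [tau_mul]
    calc tau σ D * tau σ G * (G * D) = tau σ D * (tau σ G * G) * D := by simp only [mul_assoc]
      _ = tau σ D * (G * tau σ G) * D := by rw [hcomm]
      _ = tau σ D * G * (tau σ G * D) := by simp only [mul_assoc]
      _ = 1 := by rw [hDt, hGD, one_mul]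
  have hU₁d : U₁.1.det = d := by
    show (G * D).det = d
    have hDd : (tau σ G).det * D.det = 1 := by rw [← Matrix.det_mul, hGD, Matrix.det_one]
    have ht : (tau σ G).det = σ G.det := by
      rw [tau, Matrix.det_transpose, RingHom.map_det]
      rfl
    rw [ht, hGd, Units.val_mk0] at hDd
    rw [Matrix.det_mul, hGd, Units.val_mk0]
    calc z * D.det = d * σ z * D.det := by rw [← hz]
      _ = d := by rw [mul_assoc, hDd, mul_one]
  have hU₁c : U₁ * B₁ = B₁ * U₁ := by
    apply Units.ext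
    show G * D * M₁ = M₁ * (G * D)
    have hDc : D * M₁ = M₁ * D := by
      calc D * M₁ = D * M₁ * (tau σ G * D) := by rw [hGD, mul_one]
        _ = D * (M₁ * tau σ G) * D := by simp only [mul_assoc]
        _ = D * (tau σ G * M₁) * D := by rw [htGc]
        _ = D * tau σ G * M₁ * D := by simp only [mul_assoc]
        _ = M₁ * D := by rw [hDG, one_mul]
    rw [mul_assoc, hDc, ← mul_assoc, hGc, mul_assoc]
  set U : Cfsg.GU (χ₁.natDegree + χ₂.natDegree) K q :=
    ⟨_, blkUnits_mem ⟨σ, hσ, hσσ⟩ ⟨U₁, hU₁⟩ (1 : Cfsg.GU χ₂.natDegree K q)⟩ with hUdef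
  have hUB : U * B = B * U := by
    apply Subtype.ext
    show blkUnits _ * blkUnits _ = blkUnits _ * blkUnits _
    rw [← map_mul, ← map_mul]
    congr 1
    exact Prod.ext hU₁c (by simp)
  refine ⟨P * U * P⁻¹, ?_, ?_⟩
  · show (((P : GL (Fin (χ₁.natDegree + χ₂.natDegree)) K) * (U : GL _ K) *
      (P : GL (Fin (χ₁.natDegree + χ₂.natDegree)) K)⁻¹ : GL _ K)).1.det = d
    rw [Units.val_mul, Units.val_mul, Matrix.det_units_conj]
    show (blkUnits _).1.det = d
    rw [coe_blkUnits, det_blk]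
    simp [hU₁d]
  · rw [← hP]
    calc P * U * P⁻¹ * (P * B * P⁻¹) = P * (U * B) * P⁻¹ := by group
      _ = P * (B * U) * P⁻¹ := by rw [hUB]
      _ = P * B * P⁻¹ * (P * U * P⁻¹) := by group

/-- Semisimple elements of `SU` with equal characteristic polynomials are conjugate. -/
theorem isConj_SU (hK : Fintype.card K = q ^ 2) {n : ℕ} (g h : Cfsg.SU n K q)
    (hg : (orderOf g).Coprime p) (hh : (orderOf h).Coprime p)
    (hc : g.1.1.charpoly = h.1.1.charpoly) : IsConj g h := by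
  obtain ⟨σ, hσ, hσσ⟩ := CfsgLib.FieldEmb.exists_conj hK
  rcases Nat.eq_zero_or_pos n with rfl | hn
  · rw [show g = h from Subtype.ext (Subsingleton.elim _ _)]
  · let ι : Cfsg.SU n K q →* Cfsg.GU n K q :=
      { toFun := fun x => ⟨Matrix.SpecialLinearGroup.toGL x.1, x.2⟩
        map_one' := Subtype.ext (map_one _)
        map_mul' := fun x y => Subtype.ext (map_mul _ _ _) }
    have hinj : Function.Injective (((Cfsg.GU n K q).subtype).comp ι) := by
      intro x y e
      exact Subtype.ext (Subtype.ext (congrArg (fun z : GL (Fin n) K => z.1) e))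
    have hg' : (orderOf (ι g : GL (Fin n) K)).Coprime p := by
      have := orderOf_injective _ hinj g
      rwa [← this] at hg
    have hh' : (orderOf (ι h : GL (Fin n) K)).Coprime p := by
      have := orderOf_injective _ hinj h
      rwa [← this] at hh
    obtain ⟨P, hP⟩ := isConj_iff.1 ((Cfsg.Agent.S2587.result hK (ι g) (ι h)).2
      (isConj_GL_of_charpoly_eq _ _ hg' hh' hc))
    have hPd : σ (P : GL (Fin n) K).1.det * (P : GL (Fin n) K).1.det = 1 := by
      have h := congrArg Matrix.det ((mem_GU_iff hσ hσσ _).1 P.2)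
      rw [Matrix.det_mul, Matrix.det_one, tau, Matrix.det_transpose] at h
      rw [RingHom.map_det]
      exact h
    obtain ⟨U, hUd, hUc⟩ := exists_centralizing_det (p := p) hK hσ hσσ hn (ι g) hg'
      (d := (P : GL (Fin n) K).1.det⁻¹) (by rw [map_inv₀, ← mul_inv, hPd, inv_one])
    have hdet : ((P * U : Cfsg.GU n K q) : GL (Fin n) K).1.det = 1 := by
      show ((P : GL (Fin n) K).1 * (U : GL (Fin n) K).1).det = 1
      rw [Matrix.det_mul, hUd, mul_inv_cancel₀ (right_ne_zero_of_mul_eq_one hPd)]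
    let W : Cfsg.SU n K q := ⟨⟨((P * U : Cfsg.GU n K q) : GL (Fin n) K).1, hdet⟩, (P * U).2⟩
    refine isConj_iff.2 ⟨W, ?_⟩
    have hιW : ι W = P * U := Subtype.ext (Units.ext rfl)
    apply hinj
    show ((ι (W * g * W⁻¹) : Cfsg.GU n K q) : GL (Fin n) K) = (ι h : GL (Fin n) K)
    congr 1
    rw [map_mul, map_mul, map_inv, hιW, ← hP]
    calc P * U * ι g * (P * U)⁻¹ = P * (U * ι g * U⁻¹) * P⁻¹ := by group
      _ = P * ι g * P⁻¹ := by rw [hUc, mul_inv_cancel_right]

end CfsgLib.SemisimpleSU
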