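import Cfsg.Agent.CharpolySS.Matrix
import Mathlib.LinearAlgebra.Matrix.Charpoly.Coeff
import Mathlib.RingTheory.IntegralDomain
import Mathlib.FieldTheory.Finite.Basic

/-!
# The conjugate-reciprocal polynomial and commutants of regular semisimple endomorphisms
-/

set_option autoImplicit false
set_option linter.style.haveILetI false

namespace CfsgLib.SemisimpleSU

open Polynomial Module CfsgLib.CharpolySS

variable {K : Type*} [Field K]

/-- The monic conjugate-reciprocal polynomial. -/
noncomputable def star (σ : K →+* K) (f : K[X]) : K[X] :=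
  C (σ (f.coeff 0))⁻¹ * (f.map σ).reverse

variable {σ : K →+* K}

theorem star_mul (f g : K[X]) : star σ (f * g) = star σ f * star σ g := by
  simp only [star, Polynomial.map_mul, reverse_mul_of_domain, mul_coeff_zero, map_mul, mul_inv]
  ring

theorem natDegree_star {f : K[X]} (h0 : f.coeff 0 ≠ 0) :
    (star σ f).natDegree = f.natDegree := by
  have h1 : σ (f.coeff 0) ≠ 0 := (map_ne_zero σ).2 h0
  rw [star, natDegree_C_mul (inv_ne_zero h1), reverse_natDegree,
    natDegree_map, natTrailingDegree_eq_zero.2 (Or.inr (by rwa [coeff_map])), Nat.sub_zero]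

theorem monic_star {f : K[X]} (h0 : f.coeff 0 ≠ 0) : (star σ f).Monic := by
  have h1 : σ (f.coeff 0) ≠ 0 := (map_ne_zero σ).2 h0
  rw [Monic, star, leadingCoeff_mul, leadingCoeff_C, reverse_leadingCoeff,
    trailingCoeff_eq_coeff_zero (by rwa [coeff_map]), coeff_map, inv_mul_cancel₀ h1]

theorem coeff_zero_star {f : K[X]} (hm : f.Monic) :
    (star σ f).coeff 0 = (σ (f.coeff 0))⁻¹ := by
  rw [star, coeff_C_mul, coeff_zero_reverse, leadingCoeff_map, hm.leadingCoeff, map_one, mul_one]

theorem star_star (hσσ : ∀ x, σ (σ x) = x) {f : K[X]} (hm : f.Monic) (h0 : f.coeff 0 ≠ 0) :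
    star σ (star σ f) = f := by
  conv_lhs => rw [star, coeff_zero_star hm, star, Polynomial.map_mul, map_C, reverse_mul_of_domain, reverse_C]
  simp only [map_inv₀, hσσ, inv_inv]
  rw [← mul_assoc, ← C_mul, mul_inv_cancel₀ h0, C_1, one_mul]
  have e : ((f.map σ).reverse).map σ = f.reverse := by
    have hmap : (f.map σ).map σ = f := by
      ext i
      simp [coeff_map, hσσ]
    conv_rhs => rw [← hmap]
    rw [reverse, reverse, natDegree_map, natDegree_map, natDegree_map, ← reflect_map]
  rw [e]
  have hdr : f.reverse.natDegree = f.natDegree := by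
    rw [reverse_natDegree, natTrailingDegree_eq_zero.2 (Or.inr h0), Nat.sub_zero]
  rw [reverse, hdr, reverse, reflect_reflect]

theorem irreducible_star (hσσ : ∀ x, σ (σ x) = x) {f : K[X]} (hm : f.Monic) (h0 : f.coeff 0 ≠ 0)
    (hf : Irreducible f) : Irreducible (star σ f) := by
  refine (monic_star h0).irreducible_iff_natDegree.2 ⟨?_, fun a b ha hb hab => ?_⟩
  · intro h
    have := congrArg natDegree h
    rw [natDegree_star h0, natDegree_one] at this
    exact hf.natDegree_pos.ne' this
  · have hab0 : a.coeff 0 * b.coeff 0 ≠ 0 := by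
      rw [← mul_coeff_zero, hab, coeff_zero_star hm]
      exact inv_ne_zero ((map_ne_zero σ).2 h0)
    have ha0 := left_ne_zero_of_mul hab0
    have hb0 := right_ne_zero_of_mul hab0
    have h := congrArg (star σ) hab
    rw [star_mul, star_star hσσ hm h0] at h
    rcases hf.isUnit_or_isUnit h.symm with hu | hu
    · left
      rw [← natDegree_star (σ := σ) ha0]
      exact natDegree_eq_zero_of_isUnit hu
    · right
      rw [← natDegree_star (σ := σ) hb0]
      exact natDegree_eq_zero_of_isUnit hu

universe v in
/-- Endomorphisms commuting with one of squarefree characteristic polynomial commute. -/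
theorem commute_of_squarefree : ∀ (d : ℕ) (V : Type v) [AddCommGroup V] [Module K V]
    [FiniteDimensional K V] (g : Module.End K V), finrank K V ≤ d → Squarefree g.charpoly →
    ∀ a b : Module.End K V, (∀ v, a (g v) = g (a v)) → (∀ v, b (g v) = g (b v)) →
      ∀ v, a (b v) = b (a v) := by
  intro d
  induction d with
  | zero =>
    intro V _ _ _ g hd _ a b _ _ v
    haveI : Subsingleton V := Module.finrank_zero_iff.1 (Nat.le_zero.1 hd)
    exact Subsingleton.elim _ _
  | succ d ih =>
    intro V _ _ _ g hd hsq a b ha hb
    by_cases hu : IsUnit g.charpoly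
    · intro v
      have h0 : finrank K V = 0 := by
        rw [← LinearMap.charpoly_natDegree g]
        exact natDegree_eq_zero_of_isUnit hu
      haveI : Subsingleton V := Module.finrank_zero_iff.1 h0
      exact Subsingleton.elim _ _
    · obtain ⟨π, hπ, c, hc⟩ := WfDvdMonoid.exists_irreducible_factor hu hsq.ne_zero
      rw [hc] at hsq
      have hcop : IsCoprime π c := (squarefree_mul_iff.1 hsq).1.isCoprime
      have hg0 : aeval g (π * c) = 0 := by rw [← hc]; exact LinearMap.aeval_self_charpoly g
      obtain ⟨e, he, hchar⟩ := split g hcop hg0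
      have hinv : ∀ (m : Module.End K V), (∀ v, m (g v) = g (m v)) → ∀ f : K[X],
          ∀ x ∈ LinearMap.ker (aeval g f), m x ∈ LinearMap.ker (aeval g f) := by
        intro m hm f x hx
        have hcomm : Commute m g := LinearMap.ext hm
        have h : Commute m (aeval g f) := Algebra.commute_of_mem_adjoin_singleton_of_commute
          (aeval_mem_adjoin_singleton K g) hcomm
        rw [LinearMap.mem_ker] at hx ⊢
        rw [← Module.End.mul_apply, ← h.eq, Module.End.mul_apply, hx, map_zero]
      let res : ∀ (m : Module.End K V), (∀ v, m (g v) = g (m v)) → ∀ f : K[X],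
          Module.End K (LinearMap.ker (aeval g f)) := fun m hm f => m.restrict (hinv m hm f)
      have hres : ∀ (m : Module.End K V) (hm : ∀ v, m (g v) = g (m v)) (f : K[X]) (v),
          res m hm f (onKer g f v) = onKer g f (res m hm f v) :=
        fun m hm f v => Subtype.ext (hm v)
      have hχ : (onKer g π).charpoly * (onKer g c).charpoly = π * c := by rw [← hchar, hc]
      have h1 : (onKer g π).charpoly ∣ π := by
        have hs : Squarefree (onKer g π).charpoly := hsq.squarefree_of_dvd ⟨_, hχ.symm⟩
        exact dvd_trans ((hs.dvd_pow_iff_dvd (Nat.succ_ne_zero _)).1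
          ((charpoly_dvd_pow_of_aeval_eq_zero _ π (aeval_onKer g π)).trans
            (pow_dvd_pow π (Nat.le_succ _)))) dvd_rfl
      have h2 : IsCoprime π (onKer g c).charpoly :=
        hcop.pow_right.of_isCoprime_of_dvd_right
          (charpoly_dvd_pow_of_aeval_eq_zero _ c (aeval_onKer g c))
      have h1' : π ∣ (onKer g π).charpoly := h2.dvd_of_dvd_mul_right ⟨c, hχ⟩
      have hd1 : finrank K (LinearMap.ker (aeval g π)) = π.natDegree := by
        rw [← LinearMap.charpoly_natDegree (onKer g π)]
        exact le_antisymm (natDegree_le_of_dvd h1 hπ.ne_zero)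
          (natDegree_le_of_dvd h1' (LinearMap.charpoly_monic _).ne_zero)
      have hd2 : finrank K (LinearMap.ker (aeval g c)) ≤ d := by
        have := LinearEquiv.finrank_eq e
        rw [Module.finrank_prod, hd1] at this
        have := hπ.natDegree_pos
        omega
      have hsq2 : Squarefree (onKer g c).charpoly :=
        hsq.squarefree_of_dvd ⟨_, hχ.symm.trans (mul_comm _ _)⟩
      have ec := ih _ (onKer g c) hd2 hsq2 (res a ha c) (res b hb c) (hres a ha c) (hres b hb c)
      have ep : ∀ x, res a ha π (res b hb π x) = res b hb π (res a ha π x) := by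
        haveI : Fact (Irreducible π) := ⟨hπ⟩
        letI := rootModule π (onKer g π) (aeval_onKer g π)
        haveI := rootTower π (onKer g π) (aeval_onKer g π)
        haveI : FiniteDimensional K (AdjoinRoot π) := (AdjoinRoot.powerBasis hπ.ne_zero).finite
        haveI : FiniteDimensional (AdjoinRoot π) (LinearMap.ker (aeval g π)) :=
          Module.Finite.of_restrictScalars_finite K _ _
        have hone : finrank (AdjoinRoot π) (LinearMap.ker (aeval g π)) = 1 := by
          have h := Module.finrank_mul_finrank K (AdjoinRoot π) (LinearMap.ker (aeval g π))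
          rw [hd1, (AdjoinRoot.powerBasis hπ.ne_zero).finrank,
            AdjoinRoot.powerBasis_dim] at h
          exact Nat.eq_of_mul_eq_mul_left hπ.natDegree_pos (h.trans (mul_one _).symm)
        obtain ⟨v0, -, hv0⟩ := finrank_eq_one_iff'.1 hone
        have key : ∀ (m : Module.End K V) (hm : ∀ v, m (g v) = g (m v)) (z : AdjoinRoot π) v,
            res m hm π (z • v) = z • res m hm π v := by
          intro m hm z v
          obtain ⟨f, rfl⟩ := AdjoinRoot.mk_surjective z
          show res m hm π (aeval (onKer g π) f v) = aeval (onKer g π) f (res m hm π v)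
          have hcomm : Commute (res m hm π) (onKer g π) := LinearMap.ext (hres m hm π)
          exact LinearMap.congr_fun (Algebra.commute_of_mem_adjoin_singleton_of_commute
            (aeval_mem_adjoin_singleton K _) hcomm).eq v
        intro x
        obtain ⟨z, rfl⟩ := hv0 x
        obtain ⟨za, hza⟩ := hv0 (res a ha π v0)
        obtain ⟨zb, hzb⟩ := hv0 (res b hb π v0)
        simp only [key, ← hza, ← hzb]
        rw [smul_comm za zb]
      intro v
      have hv : v ∈ LinearMap.ker (aeval g π) ⊔ LinearMap.ker (aeval g c) := by
        rw [sup_ker_aeval_eq_ker_aeval_mul_of_coprime g hcop, hg0, LinearMap.ker_zero]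
        exact Submodule.mem_top
      obtain ⟨x, hx, y, hy, rfl⟩ := Submodule.mem_sup.1 hv
      simp only [map_add]
      rw [show a (b x) = b (a x) from congrArg Subtype.val (ep ⟨x, hx⟩),
        show a (b y) = b (a y) from congrArg Subtype.val (ec ⟨y, hy⟩)]

end CfsgLib.SemisimpleSU
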